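/-
Counting conjugacy classes of elements whose order involves only small primes: the two
recursion steps used for the bound `5^(d-1)` on classes of a permutation group of degree `d`.
-/
import Mathlib

set_option autoImplicit false

namespace Cfsg.Agent.PermClasses

/-- All prime divisors of the order of `g` are smaller than `q`. -/
def SmallElt {H : Type*} [Monoid H] (q : ℕ) (g : H) : Prop :=
  ∀ p : ℕ, p.Prime → p ∣ orderOf g → p < q

theorem SmallElt.of_dvd {H K : Type*} [Monoid H] [Monoid K] {q : ℕ} {g : H} {h : K}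
    (hg : SmallElt q g) (hd : orderOf h ∣ orderOf g) : SmallElt q h :=
  fun p hp hph => hg p hp (hph.trans hd)

theorem SmallElt.coprime {H : Type*} [Group H] [Finite H] {q : ℕ} (hq : q.Prime) {g : H}
    (hg : SmallElt q g) : Nat.Coprime q (orderOf g) := by
  refine (Nat.Prime.coprime_iff_not_dvd hq).2 fun h => ?_
  exact lt_irrefl q (hg q hq h)

/-- The number of conjugacy classes of elements all of whose order's prime divisors are `< q`. -/
noncomputable def smallClasses (H : Type*) [Group H] (q : ℕ) : ℕ :=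
  (ConjClasses.mk '' {g : H | SmallElt q g}).ncard

theorem smallElt_conj {H : Type*} [Group H] {q : ℕ} (c g : H) :
    SmallElt q (c * g * c⁻¹) ↔ SmallElt q g := by
  have h : orderOf (c * g * c⁻¹) = orderOf g := by
    have := orderOf_injective (MulAut.conj c).toMonoidHom (MulAut.conj c).injective g
    simpa [MulAut.conj_apply] using this
  constructor <;> intro hs p hp hd <;> refine hs p hp ?_ <;> simpa [h] using hd

/-- A map constant on classes sees no more values than classes. -/
theorem ncard_image_le_classes {C : Type*} [Group C] [Finite C] {X : Type*} (f : C → X)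
    (hf : ∀ a b : C, IsConj a b → f a = f b) (S : Set C) :
    (f '' S).ncard ≤ (ConjClasses.mk '' S).ncard := by
  have hfin : (ConjClasses.mk '' S).Finite := (Set.toFinite S).image _
  have hsub : f '' S ⊆ (fun D : ConjClasses C => f (Quotient.out D)) '' (ConjClasses.mk '' S) := by
    rintro _ ⟨a, ha, rfl⟩
    refine ⟨ConjClasses.mk a, ⟨a, ha, rfl⟩, ?_⟩
    apply hf
    rw [← ConjClasses.mk_eq_mk_iff_isConj]
    exact Quotient.out_eq _
  exact (Set.ncard_le_ncard hsub (hfin.image _)).trans (Set.ncard_image_le hfin)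

/-- Only the identity has no prime divisor below two. -/
theorem smallClasses_two (H : Type*) [Group H] [Finite H] : smallClasses H 2 ≤ 1 := by
  refine (Set.ncard_le_ncard (t := {ConjClasses.mk (1 : H)}) ?_ (Set.finite_singleton _)).trans
    (Set.ncard_singleton _).le
  rintro _ ⟨g, hg, rfl⟩
  have h1 : orderOf g = 1 := by
    by_contra h
    obtain ⟨p, hp, hd⟩ := Nat.exists_prime_and_dvd h
    exact absurd (hg p hp hd) (not_lt.2 hp.two_le)
  rw [orderOf_eq_one_iff.1 h1]
  exact rfl

theorem smallClasses_succ_of_not_prime (H : Type*) [Group H] {q : ℕ} (hq : ¬ q.Prime) :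
    smallClasses H (q + 1) = smallClasses H q := by
  have h : {g : H | SmallElt (q + 1) g} = {g : H | SmallElt q g} := by
    ext g
    constructor
    · intro hg p hp hd
      rcases Nat.lt_or_ge p q with h | h
      · exact h
      · have : p = q := le_antisymm (Nat.lt_succ_iff.1 (hg p hp hd)) h
        exact absurd (this ▸ hp) hq
    · intro hg p hp hd
      exact Nat.lt_succ_of_lt (hg p hp hd)
  unfold smallClasses
  rw [h]

/-- Split off the `q`-part of an element. -/
theorem exists_primary_split {H : Type*} [Group H] [Finite H] {q : ℕ} (hq : q.Prime) (g : H) :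
    ∃ a b : H, a * b = g ∧ Commute a b ∧ (∃ k, orderOf a ∣ q ^ k) ∧ orderOf b ∣ orderOf g ∧
      ¬ q ∣ orderOf b := by
  obtain ⟨k, m, hm, hgm⟩ :=
    Nat.exists_eq_pow_mul_and_not_dvd (orderOf_pos g).ne' q hq.ne_one
  have hcop : Nat.Coprime (q ^ k) m :=
    Nat.Coprime.pow_left _ ((Nat.Prime.coprime_iff_not_dvd hq).2 hm)
  obtain ⟨e, he1, he2⟩ := Nat.chineseRemainder hcop 1 0
  have hb : ((g ^ e)⁻¹ * g) ^ m = 1 := by
    rw [((Commute.pow_self g e).inv_left).mul_pow, inv_pow, ← pow_mul, inv_mul_eq_one,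
      pow_eq_pow_iff_modEq, hgm]
    have := he1.mul_right' m
    simpa using this
  refine ⟨g ^ e, (g ^ e)⁻¹ * g, by group, ?_, ⟨k, ?_⟩, ?_, ?_⟩
  · exact (Commute.refl (g ^ e)).inv_right.mul_right (Commute.pow_self g e)
  · apply orderOf_dvd_of_pow_eq_one
    rw [← pow_mul, ← orderOf_dvd_iff_pow_eq_one, hgm, mul_comm (q ^ k) m]
    exact mul_dvd_mul_right (Nat.modEq_zero_iff_dvd.1 he2) _
  · exact (orderOf_dvd_of_pow_eq_one hb).trans (hgm ▸ dvd_mul_left m _)
  · exact fun h => hm (h.trans (orderOf_dvd_of_pow_eq_one hb))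

/-- Every class of an element with primes `≤ q` is obtained from some `x` in a Sylow
`q`-subgroup and a class with primes `< q` of the centraliser of `x`. -/
theorem smallClasses_succ_le {H : Type*} [Group H] [Finite H] (q : ℕ) [hq : Fact q.Prime]
    (P : Sylow q H) [Fintype (↥(P : Subgroup H))] :
    smallClasses H (q + 1) ≤
      ∑ x : ↥(P : Subgroup H), smallClasses ↥(Subgroup.centralizer {(x : H)}) q := by
  classical
  set S : ↥(P : Subgroup H) → Set (ConjClasses H) := fun x =>
    (fun y : ↥(Subgroup.centralizer {(x : H)}) => ConjClasses.mk ((x : H) * (y : H))) ''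
      {y | SmallElt q y} with hS
  have hsub : ConjClasses.mk '' {g : H | SmallElt (q + 1) g} ⊆
      ⋃ x ∈ (Finset.univ : Finset ↥(P : Subgroup H)), S x := by
    rintro _ ⟨g, hg, rfl⟩
    obtain ⟨a, b, hab, hcomm, ⟨k, hak⟩, hbg, hbq⟩ := exists_primary_split hq.out g
    have hz : IsPGroup q (Subgroup.zpowers a) := by
      obtain ⟨j, -, hj⟩ := (Nat.dvd_prime_pow hq.out).1 hak
      exact IsPGroup.of_card (n := j) (by rw [Nat.card_zpowers, hj])
    obtain ⟨Q, hQ⟩ := hz.exists_le_sylow
    obtain ⟨c, hc⟩ := MulAction.exists_smul_eq H Q P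
    have hx : c * a * c⁻¹ ∈ (P : Subgroup H) := by
      rw [← hc]
      have hmem : a ∈ (Q : Subgroup H) := hQ (Subgroup.mem_zpowers a)
      rw [Sylow.coe_subgroup_smul]
      exact Subgroup.mem_pointwise_smul_iff_inv_smul_mem.2 (by simpa [mul_assoc] using hmem)
    have hy : c * b * c⁻¹ ∈ Subgroup.centralizer {c * a * c⁻¹} := by
      rw [Subgroup.mem_centralizer_singleton_iff]
      calc c * b * c⁻¹ * (c * a * c⁻¹) = c * (b * a) * c⁻¹ := by group
        _ = c * (a * b) * c⁻¹ := by rw [hcomm.eq]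
        _ = c * a * c⁻¹ * (c * b * c⁻¹) := by group
    simp only [Set.mem_iUnion, exists_prop, Finset.mem_univ, true_and]
    refine ⟨⟨c * a * c⁻¹, hx⟩, ⟨c * b * c⁻¹, hy⟩, ?_, ?_⟩
    · intro p hp hd
      rw [← Subgroup.orderOf_coe] at hd
      have hd' : p ∣ orderOf b := by
        have := orderOf_injective (MulAut.conj c).toMonoidHom (MulAut.conj c).injective b
        simp only [MulEquiv.coe_toMonoidHom, MulAut.conj_apply] at this
        rw [this] at hd
        exact hd
      have h1 : p ≤ q := Nat.lt_succ_iff.1 (hg p hp (hd'.trans hbg))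
      exact lt_of_le_of_ne h1 fun h => hbq (h ▸ hd')
    · show ConjClasses.mk (c * a * c⁻¹ * (c * b * c⁻¹)) = ConjClasses.mk g
      rw [ConjClasses.mk_eq_mk_iff_isConj, isConj_iff]
      exact ⟨c⁻¹, by rw [← hab]; group⟩
  refine ((Set.ncard_le_ncard hsub ?_).trans (Finset.set_ncard_biUnion_le _ S)).trans ?_
  · exact Set.Finite.biUnion (Finset.finite_toSet _) fun x _ => (Set.toFinite _).image _
  refine Finset.sum_le_sum fun x _ => ?_
  refine ncard_image_le_classes _ ?_ _
  intro y y' h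
  obtain ⟨c, hc⟩ := isConj_iff.1 h
  rw [ConjClasses.mk_eq_mk_iff_isConj, isConj_iff]
  refine ⟨(c : H), ?_⟩
  have hcx : (c : H) * (x : H) = (x : H) * (c : H) :=
    Subgroup.mem_centralizer_singleton_iff.1 c.2
  have hy' : (y' : H) = c * y * (c : H)⁻¹ := by rw [← hc]; simp
  calc (c : H) * ((x : H) * y) * (c : H)⁻¹ = ((c : H) * x) * y * (c : H)⁻¹ := by group
    _ = (x : H) * (c * y * (c : H)⁻¹) := by rw [hcx]; group
    _ = (x : H) * (y' : H) := by rw [hy']

/-- Two `q'`-elements in one coset of an abelian normal `q`-subgroup are conjugate. -/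
theorem isConj_of_kernel {H K : Type*} [Group H] [Group K] [Finite H] {q : ℕ} (hq : q.Prime)
    (φ : H →* K) (hab : ∀ a b : H, a ∈ φ.ker → b ∈ φ.ker → a * b = b * a)
    (hker : IsPGroup q φ.ker) {g g' : H} (hg : SmallElt q g) (hg' : SmallElt q g')
    (he : φ g = φ g') : IsConj g g' := by
  classical
  have : Fact q.Prime := ⟨hq⟩
  let inst : CommGroup φ.ker :=
    { (inferInstance : Group φ.ker) with
      mul_comm := fun a b => Subtype.ext (hab a b a.2 b.2) }
  set m := orderOf g * orderOf g' with hm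
  obtain ⟨k, hk⟩ := hker.exists_card_eq
  have hcop : Nat.Coprime m (Nat.card φ.ker) := by
    rw [hk]
    exact Nat.Coprime.pow_right _ ((hg.coprime hq).symm.mul_left (hg'.coprime hq).symm)
  obtain ⟨r, hr⟩ : ∃ r, m * r ≡ 1 [MOD Nat.card φ.ker] :=
    ⟨Nat.gcdA m (Nat.card φ.ker) % (Nat.card φ.ker : ℤ) |>.toNat, by
      have hpos : (0 : ℤ) < (Nat.card φ.ker : ℤ) := by exact_mod_cast Nat.card_pos
      rw [← Int.natCast_modEq_iff]
      push_cast
      rw [Int.toNat_of_nonneg (Int.emod_nonneg _ hpos.ne')]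
      refine ((Int.mod_modEq _ _).mul_left _).trans ?_
      have hb := Nat.gcd_eq_gcd_ab m (Nat.card φ.ker)
      rw [Nat.coprime_iff_gcd_eq_one.1 hcop] at hb
      rw [Int.modEq_iff_dvd]
      exact ⟨Nat.gcdB m (Nat.card φ.ker), by push_cast at hb; linarith⟩⟩
  have hu : ∀ i : ℕ, (g ^ i)⁻¹ * g' ^ i ∈ φ.ker := fun i => by
    rw [MonoidHom.mem_ker, map_mul, map_inv, map_pow, map_pow, he, inv_mul_cancel]
  let u : ℕ → φ.ker := fun i => ⟨(g ^ i)⁻¹ * g' ^ i, hu i⟩
  let n : φ.ker := ⟨g⁻¹ * g', by simpa using hu 1⟩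
  let σ : φ.ker →* φ.ker := (MulAut.conjNormal g⁻¹).toMonoidHom
  have hσ : ∀ z : φ.ker, ((σ z : φ.ker) : H) = g⁻¹ * z * g := fun z => by
    simp [σ, MulAut.conjNormal_apply]
  have hrec : ∀ i, u (i + 1) = σ (u i) * n := fun i => by
    apply Subtype.ext
    rw [Subgroup.coe_mul, hσ]
    show (g ^ (i + 1))⁻¹ * g' ^ (i + 1) = g⁻¹ * ((g ^ i)⁻¹ * g' ^ i) * g * (g⁻¹ * g')
    rw [pow_succ g i, pow_succ g' i]; group
  have hum : u m = u 0 := by
    apply Subtype.ext
    show (g ^ m)⁻¹ * g' ^ m = (g ^ 0)⁻¹ * g' ^ 0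
    rw [orderOf_dvd_iff_pow_eq_one.1 (dvd_mul_right _ _),
      orderOf_dvd_iff_pow_eq_one.1 (dvd_mul_left _ _)]
    simp
  set W := ∏ i ∈ Finset.range m, u i with hW
  have hshift : ∏ i ∈ Finset.range m, u (i + 1) = W := by
    have h1 := Finset.prod_range_succ u m
    have h2 := Finset.prod_range_succ' u m
    rw [h1, hum] at h2
    exact (mul_right_cancel h2).symm
  have hWeq : W = σ W * n ^ m := by
    conv_lhs => rw [← hshift]
    rw [Finset.prod_congr rfl fun i _ => hrec i, Finset.prod_mul_distrib, ← map_prod,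
      Finset.prod_const, Finset.card_range]
  have hn : W ^ r = σ (W ^ r) * n := by
    have h1 : W ^ r = σ (W ^ r) * (n ^ m) ^ r := by
      rw [map_pow, ← mul_pow, ← hWeq]
    have h2 : (n ^ m) ^ r = n := by
      rw [← pow_mul]
      conv_rhs => rw [← pow_one n]
      rw [pow_eq_pow_iff_modEq]
      exact hr.of_dvd (orderOf_dvd_natCard n)
    rwa [h2] at h1
  have hv := congrArg (Subtype.val : φ.ker → H) hn
  rw [Subgroup.coe_mul, hσ] at hv
  rw [isConj_iff]
  refine ⟨((W ^ r : φ.ker) : H)⁻¹, ?_⟩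
  generalize ((W ^ r : φ.ker) : H) = v at hv ⊢
  change v = g⁻¹ * v * g * (g⁻¹ * g') at hv
  calc v⁻¹ * g * v⁻¹⁻¹ = v⁻¹ * g * (g⁻¹ * v * g * (g⁻¹ * g')) := by rw [inv_inv]; congr 1
    _ = g' := by group

/-- Passing to the image under a map with abelian `q`-kernel loses no `q'`-class. -/
theorem smallClasses_le_range {H K : Type*} [Group H] [Group K] [Finite H] {q : ℕ} (hq : q.Prime)
    (φ : H →* K) (hab : ∀ a b : H, a ∈ φ.ker → b ∈ φ.ker → a * b = b * a)
    (hker : IsPGroup q φ.ker) : smallClasses H q ≤ smallClasses φ.range q := by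
  have : Finite φ.range := Finite.of_surjective _ φ.rangeRestrict_surjective
  let ψ : ConjClasses H → ConjClasses φ.range := ConjClasses.map φ.rangeRestrict
  refine Set.ncard_le_ncard_of_injOn ψ ?_ ?_ ((Set.toFinite _).image _)
  · rintro _ ⟨g, hg, rfl⟩
    exact ⟨φ.rangeRestrict g, hg.of_dvd (orderOf_map_dvd _ g), rfl⟩
  · rintro _ ⟨g, hg, rfl⟩ _ ⟨g', hg', rfl⟩ h
    have h' : IsConj (φ.rangeRestrict g) (φ.rangeRestrict g') :=
      ConjClasses.mk_eq_mk_iff_isConj.1 h
    obtain ⟨c, hc⟩ := isConj_iff.1 h'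
    obtain ⟨d, rfl⟩ := φ.rangeRestrict_surjective c
    have hc' : φ (d * g * d⁻¹) = φ g' := by
      have := congrArg (Subtype.val : φ.range → K) hc
      simpa using this
    rw [ConjClasses.mk_eq_mk_iff_isConj]
    exact (isConj_iff.2 ⟨d, rfl⟩).trans
      (isConj_of_kernel hq φ hab hker ((smallElt_conj d g).2 hg) hg' hc')

end Cfsg.Agent.PermClasses
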