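/-
The cycles of a permutation, fixed points included, and the action of its centraliser on them.
-/
import Cfsg.Agent.Lib.PermClasses.Classes

set_option autoImplicit false

namespace Cfsg.Agent.PermClasses

open Equiv

variable {α : Type}

/-- The set of cycles of `x`, fixed points included. -/
abbrev Cyc (x : Perm α) : Type := Quotient (Equiv.Perm.SameCycle.setoid x)

theorem card_cyc_le [Finite α] (x : Perm α) : Nat.card (Cyc x) ≤ Nat.card α :=
  Nat.card_le_card_of_surjective _ (Quotient.mk_surjective (s := Equiv.Perm.SameCycle.setoid x))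

theorem one_le_card_cyc [Finite α] [Nonempty α] (x : Perm α) : 1 ≤ Nat.card (Cyc x) :=
  have : Nonempty (Cyc x) := ⟨Quotient.mk _ (Classical.arbitrary α)⟩
  Nat.card_pos

theorem sameCycle_map {x h : Perm α} (hc : h * x = x * h) (a b : α) :
    x.SameCycle (h a) (h b) ↔ x.SameCycle a b := by
  have e : h * x * h⁻¹ = x := by rw [hc]; group
  have := Equiv.Perm.sameCycle_conj (f := x) (g := h) (x := h a) (y := h b)
  rw [e] at this
  simpa using this

/-- A permutation commuting with `x`, on the cycles of `x`. -/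
def cycPerm (x h : Perm α) (hc : h * x = x * h) : Perm (Cyc x) :=
  Quotient.congr h fun a b => (sameCycle_map hc a b).symm

theorem cycPerm_mk (x h : Perm α) (hc : h * x = x * h) (a : α) :
    cycPerm x h hc (Quotient.mk _ a) = Quotient.mk _ (h a) := rfl

section Hom

variable {H : Type} [Group H] (ι : H →* Perm α) (x : H)

theorem comm_of_mem (h : ↥(Subgroup.centralizer {x})) : ι h * ι x = ι x * ι h := by
  rw [← map_mul, ← map_mul, Subgroup.mem_centralizer_singleton_iff.1 h.2]

/-- The centraliser of `x`, acting on the cycles of `x`. -/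
def cycHom : ↥(Subgroup.centralizer {x}) →* Perm (Cyc (ι x)) where
  toFun h := cycPerm (ι x) (ι h) (comm_of_mem ι x h)
  map_one' := by
    ext Q
    induction Q using Quotient.inductionOn with
    | h a => rw [cycPerm_mk]; simp
  map_mul' h k := by
    ext Q
    induction Q using Quotient.inductionOn with
    | h a => simp [Perm.mul_apply, cycPerm_mk]

theorem exists_zpow_of_ker {h : ↥(Subgroup.centralizer {x})} (hh : h ∈ (cycHom ι x).ker) (a : α) :
    ∃ i : ℤ, ι h a = (ι x ^ i) a := by
  have e : cycPerm (ι x) (ι h) (comm_of_mem ι x h) (Quotient.mk _ a) = Quotient.mk _ a := by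
    have := MonoidHom.mem_ker.1 hh
    have := congrArg (fun σ : Perm (Cyc (ι x)) => σ (Quotient.mk _ a)) this
    simpa [cycHom] using this
  rw [cycPerm_mk] at e
  obtain ⟨i, hi⟩ := (Quotient.exact e : (ι x).SameCycle (ι h a) a).symm
  exact ⟨i, hi.symm⟩

variable (hι : Function.Injective ι)
include hι

theorem ker_cycHom_comm (h k : ↥(Subgroup.centralizer {x})) (hh : h ∈ (cycHom ι x).ker)
    (hk : k ∈ (cycHom ι x).ker) : h * k = k * h := by
  apply Subtype.ext
  apply hι
  ext a
  obtain ⟨i, hi⟩ := exists_zpow_of_ker ι x hh a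
  obtain ⟨j, hj⟩ := exists_zpow_of_ker ι x hk a
  have e1 : ∀ (z : ↥(Subgroup.centralizer {x})) (e : ℤ) (b : α),
      ι z ((ι x ^ e) b) = (ι x ^ e) (ι z b) := fun z e b => by
    have := ((show Commute (ι z) (ι x) from comm_of_mem ι x z).zpow_right e).eq
    rw [← Perm.mul_apply, this, Perm.mul_apply]
  simp only [Subgroup.coe_mul, map_mul, Perm.mul_apply]
  rw [hj, e1, hi, e1, hj, ← Perm.mul_apply, ← Perm.mul_apply, ← zpow_add, ← zpow_add, add_comm]

theorem ker_cycHom_pGroup {q : ℕ} (hq : q.Prime) {k : ℕ} (hx : orderOf x ∣ q ^ k) :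
    IsPGroup q (cycHom ι x).ker := by
  intro h
  refine ⟨k, ?_⟩
  apply Subtype.ext
  apply Subtype.ext
  apply hι
  ext a
  obtain ⟨i, hi⟩ := exists_zpow_of_ker ι x h.2 a
  have hcomm : Commute (ι (h.1 : H)) (ι x ^ i) :=
    (show Commute (ι (h.1 : H)) (ι x) from comm_of_mem ι x h.1).zpow_right i
  have hp : ∀ n : ℕ, (ι (h.1 : H) ^ n) a = ((ι x ^ i) ^ n) a := by
    intro n
    induction n with
    | zero => simp
    | succ n ih =>
      rw [pow_succ, Perm.mul_apply, hi, ← Perm.mul_apply, (hcomm.pow_left n).eq, Perm.mul_apply,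
        ih, ← Perm.mul_apply, ← pow_succ']
  have h1 : (ι x ^ i) ^ (q ^ k) = 1 := by
    rw [← zpow_natCast, ← zpow_mul, mul_comm, zpow_mul, zpow_natCast,
      orderOf_dvd_iff_pow_eq_one.1 ((orderOf_map_dvd ι x).trans hx), one_zpow]
  simpa [h1] using hp (q ^ k)

end Hom

end Cfsg.Agent.PermClasses
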