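/-
The weighted count of cycles over a permutation group of prime power order.
-/
import Cfsg.Agent.Lib.PermClasses.Cycles

set_option autoImplicit false

namespace Cfsg.Agent.PermClasses

open Equiv

variable {α : Type}

/-- `(1/4)^(n - c)` for a permutation with `c` cycles on `n` points. -/
noncomputable def wt (x : Perm α) : ℝ := (1 / 4 : ℝ) ^ (Nat.card α - Nat.card (Cyc x))

theorem wt_nonneg (x : Perm α) : 0 ≤ wt x := by unfold wt; positivity

/-- `q / 4^(q-1)`. -/
noncomputable def eps (q : ℕ) : ℝ := (q : ℝ) / 4 ^ (q - 1)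

theorem eps_nonneg (q : ℕ) : 0 ≤ eps q := by unfold eps; positivity

/-- Restriction of an action to an invariant set. -/
def restrictHom {P : Type} [Group P] (ι : P →* Perm α) (O : Set α)
    (hO : ∀ x b, ι x b ∈ O ↔ b ∈ O) : P →* Perm O where
  toFun x := (ι x).subtypePerm (hO x)
  map_one' := by ext b; simp
  map_mul' x y := by
    ext b
    show ι (x * y) b = ι x (ι y b)
    rw [map_mul, Perm.mul_apply]

/-- A cycle of the whole is a cycle on `O` or on the complement. -/
theorem card_cyc_le_add [Finite α] {O : Set α} (x : Perm α) (h1 : ∀ b, x b ∈ O ↔ b ∈ O)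
    (h2 : ∀ b, x b ∈ Oᶜ ↔ b ∈ Oᶜ) :
    Nat.card (Cyc x) ≤
      Nat.card (Cyc (x.subtypePerm h1 : Perm O)) +
        Nat.card (Cyc (x.subtypePerm h2 : Perm (↥(Oᶜ : Set α)))) := by
  rw [← Nat.card_sum]
  let f : Cyc (x.subtypePerm h1 : Perm O) → Cyc x :=
    Quotient.map Subtype.val fun a b h => (Equiv.Perm.sameCycle_subtypePerm.1 h : _)
  let g : Cyc (x.subtypePerm h2 : Perm (↥(Oᶜ : Set α))) → Cyc x :=
    Quotient.map Subtype.val fun a b h => (Equiv.Perm.sameCycle_subtypePerm.1 h : _)
  refine Nat.card_le_card_of_surjective (Sum.elim f g) fun Q => ?_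
  induction Q using Quotient.inductionOn with
  | h a =>
    by_cases ha : a ∈ O
    · exact ⟨Sum.inl (Quotient.mk _ ⟨a, ha⟩), rfl⟩
    · exact ⟨Sum.inr (Quotient.mk _ ⟨a, ha⟩), rfl⟩

/-- The statement proved by induction on the degree. -/
def KeyBound (q n : ℕ) : Prop :=
  ∀ (β : Type) [Finite β], Nat.card β = n → 1 ≤ n →
    ∀ (R : Type) [Group R] [Fintype R] (κ : R →* Perm β),
      Function.Injective κ → IsPGroup q R → ∑ x, wt (κ x) ≤ (1 + eps q) ^ (n - 1)

theorem sum_le_of_intransitive [Finite α] {q : ℕ}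
    (IH : ∀ n' < Nat.card α, KeyBound q n')
    {P : Type} [Group P] [Fintype P] (ι : P →* Perm α) (hι : Function.Injective ι)
    (hP : IsPGroup q P) (O : Set α) (hO : ∀ x b, ι x b ∈ O ↔ b ∈ O)
    (hne : O.Nonempty) (hne' : Oᶜ.Nonempty) :
    ∑ x, wt (ι x) ≤ (1 + eps q) ^ (Nat.card α - 2) := by
  classical
  have hO' : ∀ x b, ι x b ∈ Oᶜ ↔ b ∈ Oᶜ := fun x b => not_congr (hO x b)
  set ρ₁ := restrictHom ι O hO
  set ρ₂ := restrictHom ι Oᶜ hO'
  have hsum : Nat.card O + Nat.card (↥(Oᶜ : Set α)) = Nat.card α := by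
    rw [Nat.card_coe_set_eq, Nat.card_coe_set_eq]
    exact Set.ncard_add_ncard_compl O
  have h1 : 0 < Nat.card O := have := hne.to_subtype; Nat.card_pos
  have h2 : 0 < Nat.card (↥(Oᶜ : Set α)) := have := hne'.to_subtype; Nat.card_pos
  let : Fintype ρ₁.range := Fintype.ofFinite _
  let : Fintype ρ₂.range := Fintype.ofFinite _
  let Φ : P → ρ₁.range × ρ₂.range := fun x => (ρ₁.rangeRestrict x, ρ₂.rangeRestrict x)
  have hΦ : Function.Injective Φ := fun x y h => by
    simp only [Φ, Prod.mk.injEq] at h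
    have ha := congrArg (Subtype.val : ρ₁.range → Perm O) h.1
    have hb := congrArg (Subtype.val : ρ₂.range → Perm (↥(Oᶜ : Set α))) h.2
    apply hι
    ext b
    by_cases hb' : b ∈ O
    · exact congrArg Subtype.val (congrArg (fun σ : Perm O => σ ⟨b, hb'⟩) ha)
    · exact congrArg Subtype.val
        (congrArg (fun σ : Perm (↥(Oᶜ : Set α)) => σ ⟨b, hb'⟩) hb)
  let F : ρ₁.range × ρ₂.range → ℝ := fun z => wt (z.1 : Perm O) * wt (z.2 : Perm (↥(Oᶜ : Set α)))
  have hle : ∀ x, wt (ι x) ≤ F (Φ x) := fun x => by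
    show wt (ι x) ≤ wt (ρ₁ x) * wt (ρ₂ x)
    unfold wt
    rw [← pow_add]
    refine pow_le_pow_of_le_one (by norm_num) (by norm_num) ?_
    have hc : Nat.card (Cyc (ι x)) ≤ Nat.card (Cyc (ρ₁ x)) + Nat.card (Cyc (ρ₂ x)) :=
      card_cyc_le_add (ι x) (hO x) (hO' x)
    have := card_cyc_le (ρ₁ x)
    have := card_cyc_le (ρ₂ x)
    omega
  calc ∑ x, wt (ι x) ≤ ∑ x, F (Φ x) := Finset.sum_le_sum fun x _ => hle x
    _ = ∑ z ∈ Finset.univ.image Φ, F z := (Finset.sum_image (fun a _ b _ h => hΦ h)).symm
    _ ≤ ∑ z, F z := Finset.sum_le_sum_of_subset_of_nonneg (Finset.subset_univ _)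
          fun z _ _ => mul_nonneg (wt_nonneg _) (wt_nonneg _)
    _ = (∑ y : ρ₁.range, wt (y : Perm O)) *
          ∑ z : ρ₂.range, wt (z : Perm (↥(Oᶜ : Set α))) := by
          rw [Finset.sum_mul_sum, ← Fintype.sum_prod_type']
    _ ≤ (1 + eps q) ^ (Nat.card O - 1) * (1 + eps q) ^ (Nat.card (↥(Oᶜ : Set α)) - 1) := by
          refine mul_le_mul ?_ ?_ (Finset.sum_nonneg fun z _ => wt_nonneg _)
            (pow_nonneg (by linarith [eps_nonneg q]) _)
          · exact IH _ (by omega) O rfl h1 ρ₁.range ρ₁.range.subtype Subtype.val_injective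
              (hP.of_surjective _ ρ₁.rangeRestrict_surjective)
          · exact IH _ (by omega) _ rfl h2 ρ₂.range ρ₂.range.subtype Subtype.val_injective
              (hP.of_surjective _ ρ₂.rangeRestrict_surjective)
    _ = (1 + eps q) ^ (Nat.card α - 2) := by rw [← pow_add]; congr 1; omega

/-- A permutation of `q`-power order without fixed points has at most `n/q` cycles. -/
theorem card_cyc_mul_le [Finite α] {q : ℕ} (hq : q.Prime) (x : Perm α) {k : ℕ}
    (hk : orderOf x ∣ q ^ k) (hfree : ∀ b, x b ≠ b) : Nat.card (Cyc x) * q ≤ Nat.card α := by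
  let f : Cyc x × Fin q → α := fun z => (x ^ (z.2 : ℕ)) z.1.out
  have key : ∀ (d : ℕ) (b : α), 0 < d → d < q → (x ^ d) b ≠ b := by
    intro d b hd0 hd hb
    have hcop : Nat.Coprime d (orderOf x) :=
      Nat.Coprime.coprime_dvd_right hk
        (Nat.Coprime.pow_right _
          ((Nat.Prime.coprime_iff_not_dvd hq).2 (Nat.not_dvd_of_pos_of_lt hd0 hd)).symm)
    obtain ⟨m, hm⟩ := exists_pow_eq_self_of_coprime hcop
    apply hfree b
    rw [← hm]
    clear hm
    induction m with
    | zero => simp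
    | succ m ih => rw [pow_succ, Perm.mul_apply, hb, ih]
  have hinj : Function.Injective f := by
    rintro ⟨Q, i⟩ ⟨Q', j⟩ h
    change (x ^ (i : ℕ)) Q.out = (x ^ (j : ℕ)) Q'.out at h
    have hQ : Q = Q' := by
      rw [← Quotient.out_eq Q, ← Quotient.out_eq Q']
      refine Quotient.sound (?_ : x.SameCycle Q.out Q'.out)
      have h1 : x.SameCycle ((x ^ (i : ℕ)) Q.out) ((x ^ (j : ℕ)) Q'.out) := by
        rw [h]
      simpa [Equiv.Perm.sameCycle_pow_left, Equiv.Perm.sameCycle_pow_right] using h1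
    subst hQ
    refine Prod.ext rfl (Fin.ext ?_)
    show (i : ℕ) = j
    rcases lt_trichotomy (i : ℕ) j with hlt | heq | hlt
    · exfalso
      apply key ((j : ℕ) - i) ((x ^ (i : ℕ)) Q.out) (by omega) (by have := j.2; omega)
      rw [← Perm.mul_apply, ← pow_add, Nat.sub_add_cancel hlt.le, h]
    · exact heq
    · exfalso
      apply key ((i : ℕ) - j) ((x ^ (j : ℕ)) Q.out) (by omega) (by have := i.2; omega)
      rw [← Perm.mul_apply, ← pow_add, Nat.sub_add_cancel hlt.le, h]
  simpa [Nat.card_prod] using Nat.card_le_card_of_injective f hinj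

/-- A `q`-group of permutations of `n` points has order at most `q^((n-1)/(q-1))`. -/
theorem exists_card_bound [Finite α] {q : ℕ} [hq : Fact q.Prime] {P : Type} [Group P]
    (ι : P →* Perm α) (hι : Function.Injective ι) (hP : IsPGroup q P) :
    ∃ k, Nat.card P = q ^ k ∧ (q - 1) * k ≤ Nat.card α - 1 := by
  have : Finite P := Finite.of_injective _ hι
  obtain ⟨k, hk⟩ := hP.exists_card_eq
  refine ⟨k, hk, ?_⟩
  have hd : q ^ k ∣ (Nat.card α).factorial := by
    rw [← hk]
    have := Subgroup.card_dvd_of_injective ι hι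
    rwa [Nat.card_perm] at this
  have hle : k ≤ padicValNat q (Nat.card α).factorial :=
    (padicValNat_dvd_iff_le (Nat.factorial_ne_zero _)).1 hd
  rcases Nat.eq_zero_or_pos (Nat.card α) with h0 | h0
  · rw [h0] at hle
    simp at hle
    simp [hle]
  · have h1 := sub_one_mul_padicValNat_factorial_lt_of_ne_zero (p := q) h0.ne'
    have h2 := Nat.mul_le_mul_left (q - 1) hle
    omega

theorem sq_le_four_pow {q : ℕ} (hq : 1 ≤ q) : q ^ 2 ≤ 4 ^ (q - 1) := by
  have h : q - 1 < 2 ^ (q - 1) := Nat.lt_two_pow_self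
  calc q ^ 2 ≤ (2 ^ (q - 1)) ^ 2 := Nat.pow_le_pow_left (by omega) 2
    _ = 4 ^ (q - 1) := by rw [← pow_mul, mul_comm, pow_mul]; norm_num

theorem keyBound (q : ℕ) [hq : Fact q.Prime] (n : ℕ) : KeyBound q n := by
  induction n using Nat.strong_induction_on with
  | _ n IH =>
    intro α _ hα hn P _ _ ι hι hP
    classical
    have h1e : (1 : ℝ) ≤ 1 + eps q := by linarith [eps_nonneg q]
    rcases Nat.eq_or_lt_of_le hn with hn1 | hn2
    · have : Subsingleton α := (Finite.card_le_one_iff_subsingleton).1 (by omega)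
      have : Subsingleton P := hι.subsingleton
      rw [Fintype.sum_eq_single 1 (fun x hx => absurd (Subsingleton.elim x 1) hx)]
      rw [← hn1]
      simp only [Nat.sub_self, pow_zero]
      unfold wt
      exact pow_le_one₀ (by norm_num) (by norm_num)
    have : Nonempty α := (Nat.card_pos_iff.1 (by omega)).1
    let a : α := Classical.arbitrary α
    have IH' : ∀ n' < Nat.card α, KeyBound q n' := fun n' h => IH n' (hα ▸ h)
    let O : Set α := {b | ∃ y, ι y a = b}
    have hO : ∀ x b, ι x b ∈ O ↔ b ∈ O := fun x b => by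
      constructor
      · rintro ⟨y, hy⟩
        exact ⟨x⁻¹ * y, by rw [map_mul, Perm.mul_apply, hy, map_inv]; simp⟩
      · rintro ⟨y, hy⟩
        exact ⟨x * y, by rw [map_mul, Perm.mul_apply, hy]⟩
    rcases Set.eq_empty_or_nonempty Oᶜ with htr | hne'
    swap
    · refine (sum_le_of_intransitive IH' ι hι hP O hO ⟨a, 1, by simp⟩ hne').trans ?_
      exact pow_le_pow_right₀ h1e (by omega)
    have htr' : ∀ b, ∃ y, ι y a = b := fun b => by
      by_contra h
      exact (Set.eq_empty_iff_forall_notMem.1 htr b) h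
    -- the degree is a multiple of `q`
    obtain ⟨s, hs⟩ : q ∣ Nat.card α := by
      let : MulAction P α := MulAction.compHom α ι
      have : Finite P := inferInstance
      obtain ⟨m, hm⟩ := hP.card_orbit a
      have hu : MulAction.orbit P a = Set.univ := Set.eq_univ_of_forall fun b => htr' b
      rw [hu, Nat.card_univ] at hm
      rcases Nat.eq_zero_or_pos m with rfl | hm0
      · simp at hm; omega
      · rw [hm]; exact dvd_pow_self q hm0.ne'
    have hs1 : 1 ≤ s := by
      rcases Nat.eq_zero_or_pos s with rfl | h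
      · simp at hs; omega
      · exact h
    let S : Subgroup P := (MulAction.stabilizer (Perm α) a).comap ι
    have hS : ∀ x, x ∈ S ↔ ι x a = a := fun x => Iff.rfl
    have hStop : S ≠ ⊤ := fun h => by
      have : Subsingleton α := ⟨fun b c => by
        obtain ⟨y, rfl⟩ := htr' b
        obtain ⟨z, rfl⟩ := htr' c
        rw [(hS y).1 (h ▸ Subgroup.mem_top y), (hS z).1 (h ▸ Subgroup.mem_top z)]⟩
      have := Finite.card_le_one_iff_subsingleton.2 this
      omega
    obtain ⟨N, hN, hSN⟩ := (IsCoatomic.eq_top_or_exists_le_coatom S).resolve_left hStop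
    have : Group.IsNilpotent P := hP.isNilpotent
    have hNn : N.Normal := Subgroup.NormalizerCondition.normal_of_coatom N
      Group.normalizerCondition_of_isNilpotent hN
    obtain ⟨g, hg⟩ : ∃ g, g ∉ N := by
      by_contra h
      push Not at h
      exact hN.1 (eq_top_iff.2 fun x _ => h x)
    -- the part inside `N`
    have hin : ∑ x : N, wt (ι x) ≤ (1 + eps q) ^ (n - 2) := by
      let ON : Set α := {b | ∃ y : N, ι y a = b}
      have hON : ∀ (x : N) b, (ι.comp N.subtype) x b ∈ ON ↔ b ∈ ON := fun x b => by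
        constructor
        · rintro ⟨y, hy⟩
          refine ⟨x⁻¹ * y, ?_⟩
          rw [Subgroup.coe_mul, map_mul, Perm.mul_apply, hy]
          simp
        · rintro ⟨y, hy⟩
          refine ⟨x * y, ?_⟩
          rw [Subgroup.coe_mul, map_mul, Perm.mul_apply, hy]
          simp
      have := sum_le_of_intransitive IH' (ι.comp N.subtype) (hι.comp Subtype.val_injective)
        (hP.to_subgroup N) ON hON ⟨a, 1, by simp⟩ ⟨ι g a, by
          rintro ⟨y, hy⟩
          apply hg
          have hmem : (y : P)⁻¹ * g ∈ S := (hS _).2 (by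
            rw [map_mul, Perm.mul_apply, ← hy, ← Perm.mul_apply, ← map_mul]; simp)
          have := N.mul_mem y.2 (hSN hmem)
          simpa using this⟩
      rwa [hα] at this
    -- the part outside `N`
    have hout : ∀ x : P, x ∉ N → wt (ι x) ≤ (1 / 4 : ℝ) ^ ((q - 1) * s) := by
      intro x hx
      obtain ⟨k, hk⟩ := hP x
      have hfree : ∀ b, ι x b ≠ b := by
        intro b hb
        obtain ⟨y, rfl⟩ := htr' b
        apply hx
        have hmem : y⁻¹ * x * y ∈ N := hSN ((hS _).2 (by
          rw [map_mul, map_mul, Perm.mul_apply, Perm.mul_apply, hb, map_inv]; simp))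
        have := hNn.conj_mem _ hmem y
        simpa [mul_assoc] using this
      have hc := card_cyc_mul_le hq.out (ι x) (k := k)
        ((orderOf_map_dvd ι x).trans (orderOf_dvd_of_pow_eq_one hk)) hfree
      refine pow_le_pow_of_le_one (by norm_num) (by norm_num) ?_
      rw [hs] at hc ⊢
      have hc' : Nat.card (Cyc (ι x)) ≤ s :=
        Nat.le_of_mul_le_mul_right (by rwa [mul_comm q s] at hc) hq.out.pos
      have : (q - 1) * s + s = q * s := by
        rw [Nat.sub_one_mul]; exact Nat.sub_add_cancel (Nat.le_mul_of_pos_left s hq.out.pos)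
      omega
    obtain ⟨k, hk, hkb⟩ := exists_card_bound ι hι hP
    have hk' : k + 1 ≤ 2 * s := by
      by_contra hcon
      push Not at hcon
      have h2 : (q - 1) * (2 * s) ≤ (q - 1) * k := Nat.mul_le_mul_left _ (by omega)
      have h3 : q * s ≤ (q - 1) * (2 * s) := by
        have := hq.out.two_le
        rw [← mul_assoc]
        exact Nat.mul_le_mul_right s (by omega)
      rw [hs] at hkb
      have : 0 < q * s := Nat.mul_pos hq.out.pos hs1
      omega
    have htail : (Nat.card P : ℝ) * (1 / 4 : ℝ) ^ ((q - 1) * s) ≤ eps q := by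
      rw [hk, eps, div_pow, one_pow, Nat.cast_pow, mul_one_div,
        div_le_div_iff₀ (by positivity) (by positivity)]
      have h : q ^ k * 4 ^ (q - 1) ≤ q * 4 ^ ((q - 1) * s) := by
        obtain ⟨t, rfl⟩ : ∃ t, s = t + 1 := ⟨s - 1, by omega⟩
        calc q ^ k * 4 ^ (q - 1) ≤ q ^ (2 * t + 1) * 4 ^ (q - 1) :=
              Nat.mul_le_mul_right _ (Nat.pow_le_pow_right hq.out.pos (by omega))
          _ = q * ((q ^ 2) ^ t * 4 ^ (q - 1)) := by ring
          _ ≤ q * ((4 ^ (q - 1)) ^ t * 4 ^ (q - 1)) :=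
              Nat.mul_le_mul_left _ (Nat.mul_le_mul_right _
                (Nat.pow_le_pow_left (sq_le_four_pow hq.out.one_le) t))
          _ = q * 4 ^ ((q - 1) * (t + 1)) := by ring
      exact_mod_cast h
    calc ∑ x, wt (ι x)
        = ∑ x ∈ Finset.univ.filter (fun x => x ∈ N), wt (ι x) +
            ∑ x ∈ Finset.univ.filter (fun x => x ∉ N), wt (ι x) :=
          (Finset.sum_filter_add_sum_filter_not _ _ _).symm
      _ ≤ (1 + eps q) ^ (n - 2) + eps q := by
          refine add_le_add ?_ ?_
          · rw [Finset.sum_subtype (p := fun x => x ∈ N) _ (by simp) fun x => wt (ι x)]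
            exact hin
          · refine ((Finset.sum_le_card_nsmul _ _ _
              (fun x hx => hout x (Finset.mem_filter.1 hx).2))).trans ?_
            rw [nsmul_eq_mul]
            refine le_trans (mul_le_mul_of_nonneg_right ?_ (by positivity)) htail
            rw [Nat.card_eq_fintype_card]
            exact_mod_cast Finset.card_le_univ _
      _ ≤ (1 + eps q) ^ (n - 1) := by
          have h : n - 1 = n - 2 + 1 := by omega
          rw [h, pow_succ, mul_add, mul_one]
          have := one_le_pow₀ (n := n - 2) h1e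
          nlinarith [eps_nonneg q]

end Cfsg.Agent.PermClasses
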