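/-
A permutation group of degree `d ≥ 1` has at most `5^(d-1)` conjugacy classes.
-/
import Cfsg.Agent.Lib.PermClasses.Key

set_option autoImplicit false

namespace Cfsg.Agent.PermClasses

open Equiv

/-- `5 - 8/2^q`. -/
noncomputable def aBase (q : ℕ) : ℝ := 5 - 8 / 2 ^ q

theorem four_le_aBase {q : ℕ} (hq : 5 ≤ q) : 4 ≤ aBase q := by
  unfold aBase
  have h : (8 : ℝ) ≤ 2 ^ q :=
    le_trans (by norm_num) (pow_le_pow_right₀ (by norm_num : (1 : ℝ) ≤ 2) hq)
  have : 8 / (2 : ℝ) ^ q ≤ 1 := by rw [div_le_one (by positivity)]; exact h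
  linarith

theorem aBase_le_succ (q : ℕ) : aBase q ≤ aBase (q + 1) := by
  have h : (0 : ℝ) < 8 / 2 ^ (q + 1) := by positivity
  have e : 8 / (2 : ℝ) ^ q = 8 / 2 ^ (q + 1) + 8 / 2 ^ (q + 1) := by rw [pow_succ]; field_simp; ring
  unfold aBase
  linarith

theorem aBase_lt_five (q : ℕ) : aBase q ≤ 5 := by
  unfold aBase
  have : (0 : ℝ) ≤ 8 / 2 ^ q := by positivity
  linarith

theorem five_mul_le_two_pow {q : ℕ} (hq : 5 ≤ q) : 5 * q ≤ 2 ^ q := by
  induction q, hq using Nat.le_induction with
  | base => norm_num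
  | succ q hq ih => rw [pow_succ]; omega

theorem aBase_step {q : ℕ} (hq : 5 ≤ q) : aBase q * (1 + eps q) ≤ aBase (q + 1) := by
  have h1 : aBase q * eps q ≤ 5 * eps q :=
    mul_le_mul_of_nonneg_right (aBase_lt_five q) (eps_nonneg q)
  have h2 : 5 * eps q ≤ 4 / 2 ^ q := by
    have e4 : (4 : ℝ) ^ (q - 1) * 4 = 2 ^ q * 2 ^ q := by
      rw [← pow_succ, Nat.sub_add_cancel (by omega : 1 ≤ q), ← mul_pow]; norm_num
    have h5 : (5 : ℝ) * q ≤ 2 ^ q := by exact_mod_cast five_mul_le_two_pow hq
    rw [eps, mul_div_assoc', div_le_div_iff₀ (by positivity) (by positivity)]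
    nlinarith [pow_pos (by norm_num : (0 : ℝ) < 2) q]
  have e : aBase (q + 1) = aBase q + 4 / 2 ^ q := by
    unfold aBase; rw [pow_succ]; field_simp; ring
  rw [e, mul_add, mul_one]
  linarith

variable {α : Type}

/-- The weighted count in the form needed by the recursion. -/
theorem sum_pow_le [Finite α] [Nonempty α] {q : ℕ} [Fact q.Prime] {P : Type} [Group P] [Fintype P]
    (ι : P →* Perm α) (hι : Function.Injective ι) (hP : IsPGroup q P) {a : ℝ} (ha : 4 ≤ a) :
    ∑ x, a ^ (Nat.card (Cyc (ι x)) - 1) ≤ a ^ (Nat.card α - 1) * (1 + eps q) ^ (Nat.card α - 1) := by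
  have hn : 1 ≤ Nat.card α := Nat.card_pos
  refine le_trans ?_ (mul_le_mul_of_nonneg_left
    (keyBound q _ α rfl hn P ι hι hP) (by positivity))
  rw [Finset.mul_sum]
  refine Finset.sum_le_sum fun x _ => ?_
  have hc := card_cyc_le (ι x)
  have hc1 := one_le_card_cyc (ι x)
  obtain ⟨d, hd⟩ : ∃ d, Nat.card α = Nat.card (Cyc (ι x)) + d := Nat.exists_eq_add_of_le hc
  unfold wt
  rw [hd, show Nat.card (Cyc (ι x)) + d - 1 = (Nat.card (Cyc (ι x)) - 1) + d by omega,
    Nat.add_sub_cancel_left, pow_add, mul_assoc]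
  refine le_mul_of_one_le_right (by positivity) ?_
  rw [← mul_pow]
  exact one_le_pow₀ (by linarith)

theorem pGroup_card_le {q : ℕ} [Fact q.Prime] [Finite α] {H : Type} [Group H]
    (ι : H →* Perm α) (hι : Function.Injective ι) (S : Subgroup H) (hS : IsPGroup q S) :
    ∃ k, Nat.card S = q ^ k ∧ (q - 1) * k ≤ Nat.card α - 1 :=
  exists_card_bound (ι.comp S.subtype) (hι.comp Subtype.val_injective) hS

/-- `2`-elements: at most `2^(n-1)` classes. -/
theorem smallClasses_three_le [Finite α] {H : Type} [Group H] (ι : H →* Perm α)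
    (hι : Function.Injective ι) : smallClasses H 3 ≤ 2 ^ (Nat.card α - 1) := by
  have : Finite H := Finite.of_injective _ hι
  classical
  let P : Sylow 2 H := default
  let : Fintype ↥(P : Subgroup H) := Fintype.ofFinite _
  refine (smallClasses_succ_le 2 P).trans ?_
  refine (Finset.sum_le_card_nsmul _ _ 1 fun x _ => smallClasses_two _).trans ?_
  rw [smul_eq_mul, mul_one, Finset.card_univ, ← Nat.card_eq_fintype_card]
  obtain ⟨k, hk, hb⟩ := pGroup_card_le ι hι P P.isPGroup'
  rw [hk]
  exact Nat.pow_le_pow_right (by norm_num) (by omega)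

/-- `{2,3}`-elements: at most `4^(n-1)` classes. -/
theorem smallClasses_five_le [Finite α] {H : Type} [Group H] (ι : H →* Perm α)
    (hι : Function.Injective ι) : smallClasses H 5 ≤ 4 ^ (Nat.card α - 1) := by
  have : Finite H := Finite.of_injective _ hι
  classical
  rw [smallClasses_succ_of_not_prime H (by norm_num : ¬ (4 : ℕ).Prime)]
  let P : Sylow 3 H := default
  let : Fintype ↥(P : Subgroup H) := Fintype.ofFinite _
  refine (smallClasses_succ_le 3 P).trans ?_
  refine (Finset.sum_le_card_nsmul Finset.univ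
    (fun x : ↥(P : Subgroup H) => smallClasses ↥(Subgroup.centralizer {(x : H)}) 3)
    (2 ^ (Nat.card α - 1)) fun x _ =>
    smallClasses_three_le (ι.comp (Subgroup.centralizer {(x : H)}).subtype)
      (hι.comp Subtype.val_injective)).trans ?_
  rw [smul_eq_mul, Finset.card_univ, ← Nat.card_eq_fintype_card]
  obtain ⟨k, hk, hb⟩ := pGroup_card_le ι hι P P.isPGroup'
  rw [hk]
  calc 3 ^ k * 2 ^ (Nat.card α - 1) ≤ 4 ^ k * 2 ^ (Nat.card α - 1) :=
        Nat.mul_le_mul_right _ (Nat.pow_le_pow_left (by norm_num) k)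
    _ = 2 ^ (2 * k) * 2 ^ (Nat.card α - 1) := by rw [pow_mul]; norm_num
    _ ≤ 2 ^ (Nat.card α - 1) * 2 ^ (Nat.card α - 1) :=
        Nat.mul_le_mul_right _ (Nat.pow_le_pow_right (by norm_num) (by omega))
    _ = 4 ^ (Nat.card α - 1) := (mul_pow 2 2 _).symm

/-- The bound for elements with prime divisors below `q`. -/
theorem smallClasses_le (q : ℕ) (hq : 5 ≤ q) :
    ∀ (β : Type) [Finite β] [Nonempty β] (K : Subgroup (Perm β)),
      (smallClasses K q : ℝ) ≤ aBase q ^ (Nat.card β - 1) := by
  induction q, hq using Nat.le_induction with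
  | base =>
    intro β _ _ K
    refine le_trans ?_ (pow_le_pow_left₀ (by norm_num) (four_le_aBase le_rfl) _)
    exact_mod_cast smallClasses_five_le K.subtype Subtype.val_injective
  | succ q hq ih =>
    intro β _ _ K
    classical
    have ha : (4 : ℝ) ≤ aBase q := four_le_aBase hq
    by_cases hp : q.Prime
    swap
    · rw [smallClasses_succ_of_not_prime K hp]
      exact (ih β K).trans (pow_le_pow_left₀ (by linarith) (aBase_le_succ q) _)
    have : Fact q.Prime := ⟨hp⟩
    let P : Sylow q K := default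
    let : Fintype ↥(P : Subgroup K) := Fintype.ofFinite _
    let ι : ↥(P : Subgroup K) →* Perm β := K.subtype.comp (P : Subgroup K).subtype
    have hι : Function.Injective ι := Subtype.val_injective.comp Subtype.val_injective
    calc (smallClasses K (q + 1) : ℝ)
        ≤ ∑ x : ↥(P : Subgroup K),
            (smallClasses ↥(Subgroup.centralizer {(x : K)}) q : ℝ) := by
          exact_mod_cast smallClasses_succ_le q P
      _ ≤ ∑ x, aBase q ^ (Nat.card (Cyc (ι x)) - 1) := by
          refine Finset.sum_le_sum fun x _ => ?_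
          obtain ⟨k, hk⟩ := P.isPGroup' x
          have hx : orderOf (x : K) ∣ q ^ k := by
            rw [Subgroup.orderOf_coe]; exact orderOf_dvd_of_pow_eq_one hk
          have h1 := smallClasses_le_range hp (cycHom K.subtype (x : K))
            (ker_cycHom_comm K.subtype (x : K) Subtype.val_injective)
            (ker_cycHom_pGroup K.subtype (x : K) Subtype.val_injective hp hx)
          have : Nonempty (Cyc (ι x)) :=
            ⟨Quotient.mk _ (Classical.arbitrary β)⟩
          exact le_trans (by exact_mod_cast h1) (ih (Cyc (ι x)) (cycHom K.subtype (x : K)).range)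
      _ ≤ aBase q ^ (Nat.card β - 1) * (1 + eps q) ^ (Nat.card β - 1) :=
          sum_pow_le ι hι P.isPGroup' ha
      _ ≤ aBase (q + 1) ^ (Nat.card β - 1) := by
          rw [← mul_pow]
          exact pow_le_pow_left₀ (mul_nonneg (by linarith) (by linarith [eps_nonneg q]))
            (aBase_step hq) _

theorem card_conjClasses_le {β : Type} [Finite β] [Nonempty β] (K : Subgroup (Perm β)) :
    Nat.card (ConjClasses K) ≤ 5 ^ (Nat.card β - 1) := by
  have hall : smallClasses K (Nat.card β + 5) = Nat.card (ConjClasses K) := by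
    have h : {g : K | SmallElt (Nat.card β + 5) g} = Set.univ := Set.eq_univ_of_forall fun g => by
      intro p hp hd
      have h1 : orderOf g ∣ (Nat.card β).factorial := by
        rw [← Nat.card_perm, ← Subgroup.orderOf_coe g]
        exact orderOf_dvd_natCard _
      have := (Nat.Prime.dvd_factorial hp).1 (hd.trans h1)
      omega
    unfold smallClasses
    rw [h, Set.image_univ, Set.range_eq_univ.2 ConjClasses.mk_surjective, Set.ncard_univ]
  have h := smallClasses_le (Nat.card β + 5) (by omega) β K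
  rw [hall] at h
  have h2 := h.trans (pow_le_pow_left₀ (by linarith [four_le_aBase (show 5 ≤ Nat.card β + 5 by omega)])
    (aBase_lt_five _) _)
  exact_mod_cast h2

end Cfsg.Agent.PermClasses
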